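import Mathlib
import Groth.Prelude.Def_Exal2
import Groth.Agent.ExalLib.Basic
import Groth.Agent.RegLocal.Completion

/-! Extensions of a Noetherian local ring and of its completion by a simple module agree. -/

set_option autoImplicit false
set_option backward.isDefEq.respectTransparency false
set_option backward.isDefEq.respectTransparency.types false
set_option linter.style.haveILetI false

universe u v

open Exal IsLocalRing

noncomputable section

namespace Groth.Agent.ExalComplLib

section Gen

variable {A : Type u} {B L : Type v} [CommRing A] [CommRing B] [Algebra A B] [AddCommGroup L] [Module B L]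

/-- the preimage of the maximal ideal -/
def top' [IsLocalRing B] (X : Exal.Ext A B L) : Ideal X.E := (maximalIdeal B).comap X.proj.toRingHom

theorem smul_eq_zero_of_simple [IsLocalRing B] [IsSimpleModule B L] (b : B) (hb : b ∈ maximalIdeal B) (z : L) :
    b • z = 0 := by
  obtain ⟨I, hI, ⟨e⟩⟩ := isSimpleModule_iff_quot_maximal.mp (inferInstance : IsSimpleModule B L)
  have hI' : I = maximalIdeal B := IsLocalRing.eq_maximalIdeal hI
  apply e.injective
  rw [map_smul, map_zero]
  obtain ⟨w, hw⟩ := Ideal.Quotient.mk_surjective (e z)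
  rw [← hw, Algebra.smul_def, Ideal.Quotient.algebraMap_eq, ← map_mul, Ideal.Quotient.eq_zero_iff_mem]
  exact Ideal.mul_mem_right _ _ (hI' ▸ hb)

theorem isNoetherianRing_ext [IsNoetherianRing B] [Module.Finite B L] (X : Exal.Ext A B L) : IsNoetherianRing X.E := by
  letI : Module X.E L := Module.compHom L X.proj.toRingHom
  letI : Algebra X.E B := X.proj.toRingHom.toAlgebra
  haveI : IsScalarTower X.E B L := ⟨fun x b z => by
    show (X.proj x * b) • z = X.proj x • (b • z)
    rw [mul_smul]⟩
  haveI hB : IsNoetherian X.E B :=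
    isNoetherian_of_tower_of_surjective B X.isExtension.proj_surjective
  haveI hL : IsNoetherian X.E L :=
    isNoetherian_of_tower_of_surjective B X.isExtension.proj_surjective
  let i : L →ₗ[X.E] X.E := { toFun := X.incl, map_add' := map_add X.incl, map_smul' := fun x z => (X.isExtension.mul_incl x z).symm }
  let p : X.E →ₗ[X.E] B := (Algebra.linearMap X.E B)
  refine isNoetherianRing_iff.mpr (isNoetherian_of_range_eq_ker i p ?_)
  ext x
  exact (X.isExtension.exact x).symm
where
  isNoetherian_of_tower_of_surjective {R : Type v} [CommRing R] (S : Type v) [CommRing S] [Algebra R S]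
      {M : Type v} [AddCommGroup M] [Module R M] [Module S M] [IsScalarTower R S M] [IsNoetherian S M]
      (h : Function.Surjective (algebraMap R S)) : IsNoetherian R M := by
    constructor
    intro N
    let N' : Submodule S M :=
      { carrier := N
        add_mem' := N.add_mem'
        zero_mem' := N.zero_mem'
        smul_mem' := fun s m hm => by
          obtain ⟨r, rfl⟩ := h s
          rw [algebraMap_smul]
          exact N.smul_mem r hm }
    obtain ⟨T, hT⟩ := IsNoetherian.noetherian N'
    refine ⟨T, ?_⟩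
    have h2 := Submodule.restrictScalars_span R S h (T : Set M)
    rw [hT] at h2
    rw [← h2]
    ext m
    rfl

theorem isLocalRing_ext [IsLocalRing B] (X : Exal.Ext A B L) : IsLocalRing X.E := by
  haveI : (top' X).IsMaximal :=
    Ideal.comap_isMaximal_of_surjective _ X.isExtension.proj_surjective
  refine IsLocalRing.of_unique_max_ideal ⟨top' X, inferInstance, fun M hM => ?_⟩
  have hker : RingHom.ker X.proj.toRingHom ≤ M := fun x hx => by
    have h0 : x * x = 0 := ExalLib.mul_of_proj_eq_zero X hx hx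
    exact (hM.isPrime.mem_or_mem (h0 ▸ M.zero_mem)).elim id id
  have hmap : (M.map X.proj.toRingHom).IsMaximal :=
    (Ideal.map_eq_top_or_isMaximal_of_surjective X.proj.toRingHom X.isExtension.proj_surjective hM).resolve_left fun h => by
      have h' := congrArg (Ideal.comap X.proj.toRingHom) h
      rw [Ideal.comap_map_of_surjective X.proj.toRingHom X.isExtension.proj_surjective, ← RingHom.ker_eq_comap_bot,
        sup_eq_left.mpr hker, Ideal.comap_top] at h'
      exact hM.ne_top h'
  have h' := congrArg (Ideal.comap X.proj.toRingHom) (IsLocalRing.eq_maximalIdeal hmap)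
  rw [Ideal.comap_map_of_surjective X.proj.toRingHom X.isExtension.proj_surjective, ← RingHom.ker_eq_comap_bot,
    sup_eq_left.mpr hker] at h'
  exact h'

theorem exists_separating [IsLocalRing B] [IsNoetherianRing B] [IsSimpleModule B L] (X : Exal.Ext A B L) :
    ∃ N, 1 ≤ N ∧ ∀ n, N ≤ n → ∀ z : L, X.incl z ∈ top' X ^ n → z = 0 := by
  haveI := isNoetherianRing_ext X
  haveI := isLocalRing_ext X
  let S : ℕ → Submodule B L := fun n =>
    { carrier := {z | X.incl z ∈ top' X ^ n}
      add_mem' := fun {a b} ha hb => by show X.incl (a + b) ∈ top' X ^ n; rw [map_add]; exact Ideal.add_mem _ ha hb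
      zero_mem' := by show X.incl 0 ∈ top' X ^ n; rw [map_zero]; exact Ideal.zero_mem _
      smul_mem' := fun b z hz => by
        obtain ⟨x, rfl⟩ := X.isExtension.proj_surjective b
        show X.incl (X.proj x • z) ∈ top' X ^ n
        rw [← X.isExtension.mul_incl]
        exact Ideal.mul_mem_left _ _ hz }
  by_contra hne
  push Not at hne
  have htop : ∀ n, S n = ⊤ := fun n => by
    refine (eq_bot_or_eq_top (S n)).resolve_left fun hbot => ?_
    obtain ⟨m, hm, z, hz, hz0⟩ := hne (max 1 n) (le_max_left _ _)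
    have : z ∈ S n := Ideal.pow_le_pow_right ((le_max_right 1 n).trans hm) hz
    exact hz0 (by rwa [hbot, Submodule.mem_bot] at this)
  haveI : Nontrivial L := IsSimpleModule.nontrivial B L
  obtain ⟨z, hz⟩ := exists_ne (0 : L)
  have hinf : X.incl z ∈ ⨅ n, top' X ^ n := by
    rw [Ideal.mem_iInf]
    exact fun n => (htop n).ge Submodule.mem_top
  rw [Ideal.iInf_pow_eq_bot_of_isLocalRing (top' X)
      (Ideal.comap_isMaximal_of_surjective X.proj.toRingHom X.isExtension.proj_surjective).ne_top,
    Ideal.mem_bot, ← map_zero X.incl] at hinf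
  exact hz (X.isExtension.incl_injective hinf)

theorem exists_top_pow_lift [IsLocalRing B] (X : Exal.Ext A B L) (n : ℕ) (b : B) (hb : b ∈ maximalIdeal B ^ n) :
    ∃ x ∈ top' X ^ n, X.proj x = b := by
  have h : (top' X ^ n).map X.proj.toRingHom = maximalIdeal B ^ n := by
    rw [Ideal.map_pow, top', Ideal.map_comap_of_surjective X.proj.toRingHom X.isExtension.proj_surjective]
  rw [← h] at hb
  exact (Ideal.mem_map_iff_of_surjective _ X.isExtension.proj_surjective).mp hb

theorem proj_mem_pow [IsLocalRing B] (X : Exal.Ext A B L) (n : ℕ) {x : X.E} (hx : x ∈ top' X ^ n) :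
    X.proj x ∈ maximalIdeal B ^ n := by
  have h : (top' X ^ n).map X.proj.toRingHom = maximalIdeal B ^ n := by
    rw [Ideal.map_pow, top', Ideal.map_comap_of_surjective X.proj.toRingHom X.isExtension.proj_surjective]
  rw [← h]
  exact Ideal.mem_map_of_mem _ hx

end Gen

section Compl

variable {Λ : Type v} [CommRing Λ] {R : Type v} [CommRing R] [Algebra Λ R] [IsLocalRing R] [IsNoetherianRing R]


theorem completion_pow_mem_iff (n : ℕ) (r : R) :
    algebraMap R (AdicCompletion (maximalIdeal R) R) r ∈ maximalIdeal (AdicCompletion (maximalIdeal R) R) ^ n ↔ r ∈ maximalIdeal R ^ n := by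
  rw [AdicCompletion.maximalIdeal_eq_map, ← Ideal.map_pow]
  refine ⟨fun h => ?_, fun h => Ideal.mem_map_of_mem _ h⟩
  have hle : (maximalIdeal R ^ n).map (algebraMap R (AdicCompletion (maximalIdeal R) R)) ≤ RingHom.ker (AdicCompletion.evalₐ (maximalIdeal R) n).toRingHom := by
    rw [Ideal.map_le_iff_le_comap]
    intro a ha
    rw [Ideal.mem_comap, RingHom.mem_ker]
    show AdicCompletion.evalₐ (maximalIdeal R) n (algebraMap R (AdicCompletion (maximalIdeal R) R) a) = 0
    rw [AlgHom.commutes]
    exact Ideal.Quotient.eq_zero_iff_mem.2 ha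
  have := hle h
  rw [RingHom.mem_ker] at this
  rw [← Ideal.Quotient.eq_zero_iff_mem, ← Ideal.Quotient.algebraMap_eq, ← AlgHom.commutes (AdicCompletion.evalₐ (maximalIdeal R) n)]
  exact this

theorem completion_exists_approx (n : ℕ) (ρ : (AdicCompletion (maximalIdeal R) R)) : ∃ r : R, ρ - algebraMap R (AdicCompletion (maximalIdeal R) R) r ∈ maximalIdeal (AdicCompletion (maximalIdeal R) R) ^ n := by
  obtain ⟨c, hc⟩ := Submodule.Quotient.mk_surjective _ (ρ.val n)
  refine ⟨c, ?_⟩
  have hmem : ρ - algebraMap R (AdicCompletion (maximalIdeal R) R) c ∈ maximalIdeal R ^ n • (⊤ : Submodule R (AdicCompletion (maximalIdeal R) R)) := by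
    rw [AdicCompletion.pow_smul_top_eq_ker_eval (maximalIdeal R).fg_of_isNoetherianRing, LinearMap.mem_ker, map_sub, sub_eq_zero]
    exact hc.symm
  rw [Ideal.smul_top_eq_map, Submodule.restrictScalars_mem, Ideal.map_pow, ← AdicCompletion.maximalIdeal_eq_map] at hmem
  exact hmem

variable (L : Type v) [AddCommGroup L] [Module (AdicCompletion (maximalIdeal R) R) L] [Module R L] [IsScalarTower R (AdicCompletion (maximalIdeal R) R) L] [IsSimpleModule R L]

theorem isSimpleModule_completion : IsSimpleModule (AdicCompletion (maximalIdeal R) R) L := by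
  haveI : Nontrivial L := IsSimpleModule.nontrivial R L
  exact isSimpleModule_iff _ _ |>.mpr
    { eq_bot_or_eq_top := fun N => by
        rcases eq_bot_or_eq_top (N.restrictScalars R) with h | h
        · exact Or.inl (SetLike.ext fun x => (SetLike.ext_iff.mp h x : _))
        · exact Or.inr (SetLike.ext fun x => (SetLike.ext_iff.mp h x : _)) }

variable {L}

/-- A map out of `(AdicCompletion (maximalIdeal R) R)` approximated by `R` modulo a power of the maximal ideal. -/
theorem pullback_mem_iff (X : Exal.Ext Λ (AdicCompletion (maximalIdeal R) R) L) (N : ℕ)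
    (hX : ∀ z : L, X.incl z ∈ top' X ^ N → z = 0) (y : (X.pullback R).E) :
    y.1.1 ∈ top' X ^ N ↔ y ∈ top' (X.pullback R) ^ N := by
  have hmap : ∀ w : (X.pullback R).E, w ∈ top' (X.pullback R) ^ N → w.1.1 ∈ top' X ^ N := by
    let π : (X.pullback R).E →+* X.E := ((AlgHom.fst Λ X.E R).comp (X.fiberProd R).val).toRingHom
    intro w hw
    have hle : (top' (X.pullback R)).map π ≤ top' X := by
      rw [Ideal.map_le_iff_le_comap]
      intro v hv
      show X.proj v.1.1 ∈ maximalIdeal (AdicCompletion (maximalIdeal R) R)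
      rw [show X.proj v.1.1 = algebraMap R (AdicCompletion (maximalIdeal R) R) v.1.2 from v.2, ← pow_one (maximalIdeal (AdicCompletion (maximalIdeal R) R)), completion_pow_mem_iff, pow_one]
      exact hv
    have := Ideal.pow_right_mono hle N (by rw [← Ideal.map_pow]; exact Ideal.mem_map_of_mem π hw)
    exact this
  refine ⟨fun h => ?_, hmap y⟩
  have hr : (X.pullback R).proj y ∈ maximalIdeal R ^ N := by
    rw [← completion_pow_mem_iff]
    have := proj_mem_pow X N h
    rwa [show X.proj y.1.1 = algebraMap R (AdicCompletion (maximalIdeal R) R) y.1.2 from y.2] at this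
  obtain ⟨b, hb, hby⟩ := exists_top_pow_lift (X.pullback R) N _ hr
  obtain ⟨z, hz⟩ := ExalLib.exists_eq_add_incl (X.pullback R) (x := y) (y := b) hby.symm
  have h2 : X.incl z ∈ top' X ^ N := by
    have h3 : y.1.1 = b.1.1 + X.incl z := congrArg (fun w : (X.pullback R).E => w.1.1) hz
    have := Ideal.sub_mem _ h (hmap b hb)
    rwa [h3, add_sub_cancel_left] at this
  rw [hz, hX z h2, map_zero, add_zero]
  exact hb

theorem pullback_surjective_mod (X : Exal.Ext Λ (AdicCompletion (maximalIdeal R) R) L) (N : ℕ) (x : X.E) :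
    ∃ y : (X.pullback R).E, x - y.1.1 ∈ top' X ^ N := by
  obtain ⟨r, hr⟩ := completion_exists_approx N (X.proj x)
  obtain ⟨a, ha, hax⟩ := exists_top_pow_lift X N _ hr
  refine ⟨⟨(x - a, r), ?_⟩, ?_⟩
  · show X.proj (x - a) = algebraMap R (AdicCompletion (maximalIdeal R) R) r
    rw [map_sub, hax, sub_sub_cancel]
  · show x - (x - a) ∈ _
    rwa [sub_sub_cancel]

theorem injective_pullback (X X' : Exal.Ext Λ (AdicCompletion (maximalIdeal R) R) L) (ε : (X.pullback R).Equiv (X'.pullback R)) :
    Nonempty (X.Equiv X') := by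
  haveI := isSimpleModule_completion (R := R) L
  haveI : IsNoetherianRing (AdicCompletion (maximalIdeal R) R) := RegLocal.isNoetherianRing_completion _ _
  obtain ⟨N₁, hN₁, h₁⟩ := exists_separating X
  obtain ⟨N₂, hN₂, h₂⟩ := exists_separating X'
  let N := max N₁ N₂
  have hX := h₁ N (le_max_left _ _)
  have hX' := h₂ N (le_max_right _ _)
  let T : X.E → X'.E → Prop := fun x x' => X'.proj x' = X.proj x ∧
    ∃ y : (X.pullback R).E, x - y.1.1 ∈ top' X ^ N ∧ x' - (ε.toAlgEquiv y).1.1 ∈ top' X' ^ N
  have hex : ∀ x, ∃ x', T x x' := fun x => by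
    obtain ⟨y, hy⟩ := pullback_surjective_mod (R := R) X N x
    have hp : (ε.toAlgEquiv y).1.2 = y.1.2 := ε.proj_apply y
    have h := proj_mem_pow X N hy
    rw [map_sub, show X.proj y.1.1 = algebraMap R (AdicCompletion (maximalIdeal R) R) y.1.2 from y.2] at h
    obtain ⟨a, ha, hax⟩ := exists_top_pow_lift X' N _ h
    refine ⟨(ε.toAlgEquiv y).1.1 + a, ?_, y, hy, by simpa using ha⟩
    rw [map_add, show X'.proj (ε.toAlgEquiv y).1.1 = algebraMap R (AdicCompletion (maximalIdeal R) R) (ε.toAlgEquiv y).1.2 from (ε.toAlgEquiv y).2,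
      hp, hax]
    ring
  have huniq : ∀ x a b, T x a → T x b → a = b := by
    rintro x a b ⟨ha, y, hy, hay⟩ ⟨hb, y', hy', hby⟩
    have h1 : (y - y').1.1 ∈ top' X ^ N := by
      have := Ideal.sub_mem _ hy' hy
      rwa [sub_sub_sub_cancel_left] at this
    rw [pullback_mem_iff X N hX] at h1
    have h2 : ε.toAlgEquiv (y - y') ∈ top' (X'.pullback R) ^ N := by
      have hle : (top' (X.pullback R)).map (ε.toAlgEquiv : (X.pullback R).E →+* (X'.pullback R).E) ≤ top' (X'.pullback R) := by
        rw [Ideal.map_le_iff_le_comap]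
        intro v hv
        show (X'.pullback R).proj (ε.toAlgEquiv v) ∈ maximalIdeal R
        rw [ε.proj_apply]
        exact hv
      exact Ideal.pow_right_mono hle N (by rw [← Ideal.map_pow]; exact Ideal.mem_map_of_mem _ h1)
    rw [← pullback_mem_iff X' N hX'] at h2
    have h3 : a - b ∈ top' X' ^ N := by
      have h4 : a - b = (a - (ε.toAlgEquiv y).1.1) - (b - (ε.toAlgEquiv y').1.1) + (ε.toAlgEquiv (y - y')).1.1 := by
        rw [map_sub]
        show a - b = _ + ((ε.toAlgEquiv y).1.1 - (ε.toAlgEquiv y').1.1)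
        ring
      rw [h4]
      exact Ideal.add_mem _ (Ideal.sub_mem _ hay hby) h2
    obtain ⟨z, hz⟩ := (X'.isExtension.exact (a - b)).1 (by rw [map_sub, ha, hb, sub_self])
    rw [← sub_eq_zero, ← hz, hX' z (hz ▸ h3), map_zero]
  choose φ hφ using hex
  have hT1 : T 1 1 := ⟨by rw [map_one, map_one], 1, by
    show (1 : X.E) - 1 ∈ _; simp, by
    rw [map_one]; show (1 : X'.E) - 1 ∈ _; simp⟩
  have hTmul : ∀ a a' b b', T a a' → T b b' → T (a * b) (a' * b') := by
    rintro a a' b b' ⟨ha, y, hy, hy'⟩ ⟨hb, w, hw, hw'⟩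
    refine ⟨by rw [map_mul, map_mul, ha, hb], y * w, ?_, ?_⟩
    · show a * b - y.1.1 * w.1.1 ∈ _
      rw [show a * b - y.1.1 * w.1.1 = (a - y.1.1) * b + y.1.1 * (b - w.1.1) by ring]
      exact Ideal.add_mem _ (Ideal.mul_mem_right _ _ hy) (Ideal.mul_mem_left _ _ hw)
    · rw [map_mul]
      show a' * b' - (ε.toAlgEquiv y).1.1 * (ε.toAlgEquiv w).1.1 ∈ _
      rw [show a' * b' - (ε.toAlgEquiv y).1.1 * (ε.toAlgEquiv w).1.1 =
        (a' - (ε.toAlgEquiv y).1.1) * b' + (ε.toAlgEquiv y).1.1 * (b' - (ε.toAlgEquiv w).1.1) by ring]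
      exact Ideal.add_mem _ (Ideal.mul_mem_right _ _ hy') (Ideal.mul_mem_left _ _ hw')
  have hTadd : ∀ a a' b b', T a a' → T b b' → T (a + b) (a' + b') := by
    rintro a a' b b' ⟨ha, y, hy, hy'⟩ ⟨hb, w, hw, hw'⟩
    refine ⟨by rw [map_add, map_add, ha, hb], y + w, ?_, ?_⟩
    · show a + b - (y.1.1 + w.1.1) ∈ _
      rw [add_sub_add_comm]; exact Ideal.add_mem _ hy hw
    · rw [map_add]
      show a' + b' - ((ε.toAlgEquiv y).1.1 + (ε.toAlgEquiv w).1.1) ∈ _
      rw [add_sub_add_comm]; exact Ideal.add_mem _ hy' hw'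
  have hTΛ : ∀ c : Λ, T (algebraMap Λ X.E c) (algebraMap Λ X'.E c) := fun c =>
    ⟨by rw [AlgHom.commutes, AlgHom.commutes], algebraMap Λ _ c, by
      show algebraMap Λ X.E c - algebraMap Λ X.E c ∈ _; simp, by
      rw [AlgEquiv.commutes]; show algebraMap Λ X'.E c - algebraMap Λ X'.E c ∈ _; simp⟩
  let Φ : X.E →ₐ[Λ] X'.E :=
    { toFun := φ
      map_one' := huniq _ _ _ (hφ 1) hT1
      map_mul' := fun a b => huniq _ _ _ (hφ _) (hTmul _ _ _ _ (hφ a) (hφ b))
      map_zero' := huniq _ _ _ (hφ 0) (by simpa using hTΛ 0)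
      map_add' := fun a b => huniq _ _ _ (hφ _) (hTadd _ _ _ _ (hφ a) (hφ b))
      commutes' := fun c => huniq _ _ _ (hφ _) (hTΛ c) }
  refine ExalLib.nonempty_equiv X X' Φ (fun x => (hφ x).1) fun z => huniq _ _ _ (hφ _)
    ⟨by rw [ExalLib.proj_incl, ExalLib.proj_incl], (X.pullback R).incl z, ?_, ?_⟩
  · show X.incl z - X.incl z ∈ _; simp
  · rw [ε.apply_incl]
    show X'.incl z - X'.incl z ∈ _; simp

theorem surjective_pullback (Y : Exal.Ext Λ R L) :
    ∃ X : Exal.Ext Λ (AdicCompletion (maximalIdeal R) R) L, Nonempty ((X.pullback R).Equiv Y) := by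
  haveI := isSimpleModule_completion (R := R) L
  obtain ⟨N, hN, hsep⟩ := exists_separating Y
  have hY := hsep N le_rfl
  let Q := R ⧸ maximalIdeal R ^ N
  let a : (AdicCompletion (maximalIdeal R) R) →ₐ[Λ] Q := (AdicCompletion.evalₐ (maximalIdeal R) N).restrictScalars Λ
  let b : Y.E ⧸ top' Y ^ N →ₐ[Λ] Q := Ideal.Quotient.liftₐ _ ((Ideal.Quotient.mkₐ Λ _).comp Y.proj) fun y hy =>
    Ideal.Quotient.eq_zero_iff_mem.mpr (proj_mem_pow Y N hy)
  let E := AlgHom.equalizer (a.comp (AlgHom.fst Λ (AdicCompletion (maximalIdeal R) R) (Y.E ⧸ top' Y ^ N))) (b.comp (AlgHom.snd Λ (AdicCompletion (maximalIdeal R) R) (Y.E ⧸ top' Y ^ N)))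
  have ha : ∀ r : R, a (algebraMap R (AdicCompletion (maximalIdeal R) R) r) = Ideal.Quotient.mk _ r := fun r => AlgHom.commutes (AdicCompletion.evalₐ (maximalIdeal R) N) r
  have hasurj : ∀ ρ : (AdicCompletion (maximalIdeal R) R), ∃ r : R, ρ - algebraMap R (AdicCompletion (maximalIdeal R) R) r ∈ maximalIdeal (AdicCompletion (maximalIdeal R) R) ^ N ∧ a ρ = Ideal.Quotient.mk _ r := fun ρ => by
    obtain ⟨r, hr⟩ := completion_exists_approx N ρ
    refine ⟨r, hr, ?_⟩
    rw [← sub_eq_zero, ← ha, ← map_sub]
    have hle : (maximalIdeal R ^ N).map (algebraMap R (AdicCompletion (maximalIdeal R) R)) ≤ RingHom.ker a.toRingHom := by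
      rw [Ideal.map_le_iff_le_comap]
      intro w hw
      show a (algebraMap R (AdicCompletion (maximalIdeal R) R) w) = 0
      rw [ha]
      exact Ideal.Quotient.eq_zero_iff_mem.mpr hw
    refine hle ?_
    rw [Ideal.map_pow, ← AdicCompletion.maximalIdeal_eq_map]
    exact hr
  have hsmul : ∀ (ρ : (AdicCompletion (maximalIdeal R) R)) (z : L), ρ ∈ maximalIdeal (AdicCompletion (maximalIdeal R) R) ^ N → ρ • z = 0 := fun ρ z hρ =>
    smul_eq_zero_of_simple ρ (Ideal.pow_le_self (by omega) hρ) z
  let p : E →ₐ[Λ] (AdicCompletion (maximalIdeal R) R) := (AlgHom.fst Λ (AdicCompletion (maximalIdeal R) R) (Y.E ⧸ top' Y ^ N)).comp E.val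
  let i : L →+ E :=
    { toFun := fun z => ⟨(0, Ideal.Quotient.mk _ (Y.incl z)), by
        show a 0 = b (Ideal.Quotient.mk _ (Y.incl z))
        rw [map_zero]
        show 0 = Ideal.Quotient.mk _ (Y.proj (Y.incl z))
        rw [ExalLib.proj_incl, map_zero]⟩
      map_zero' := Subtype.ext (Prod.ext rfl (by simp))
      map_add' := fun z z' => Subtype.ext (Prod.ext (by simp) (by simp)) }
  let X : Exal.Ext Λ (AdicCompletion (maximalIdeal R) R) L :=
    { E := E
      proj := p
      incl := i
      isExtension :=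
        { proj_surjective := fun ρ => by
            obtain ⟨r, -, hr⟩ := hasurj ρ
            obtain ⟨y, rfl⟩ := Y.isExtension.proj_surjective r
            exact ⟨⟨(ρ, Ideal.Quotient.mk _ y), hr⟩, rfl⟩
          incl_injective := (injective_iff_map_eq_zero i).2 fun z hz => by
            have h := congrArg (fun e : E => e.1.2) hz
            exact hY z (Ideal.Quotient.eq_zero_iff_mem.mp h)
          exact := fun e => by
            constructor
            · intro he
              obtain ⟨⟨ρ, w⟩, hw⟩ := e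
              change ρ = 0 at he
              subst he
              obtain ⟨y, rfl⟩ := Ideal.Quotient.mk_surjective w
              have h1 : Y.proj y ∈ maximalIdeal R ^ N := by
                rw [← Ideal.Quotient.eq_zero_iff_mem]
                exact (show a 0 = Ideal.Quotient.mk _ (Y.proj y) from hw).symm.trans (map_zero a)
              obtain ⟨c, hc, hcy⟩ := exists_top_pow_lift Y N _ h1
              obtain ⟨z, hz⟩ := ExalLib.exists_eq_add_incl Y (x := y) (y := c) hcy.symm
              refine ⟨z, Subtype.ext (Prod.ext rfl ?_)⟩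
              show Ideal.Quotient.mk _ (Y.incl z) = Ideal.Quotient.mk _ y
              rw [hz, map_add, Ideal.Quotient.eq_zero_iff_mem.mpr hc, zero_add]
            · rintro ⟨z, rfl⟩
              rfl
          mul_incl := fun e z => by
            obtain ⟨⟨ρ, w⟩, hw⟩ := e
            obtain ⟨y, rfl⟩ := Ideal.Quotient.mk_surjective w
            obtain ⟨r, hr, har⟩ := hasurj ρ
            refine Subtype.ext (Prod.ext ?_ ?_)
            · show ρ * 0 = 0
              exact mul_zero _
            · show Ideal.Quotient.mk _ y * Ideal.Quotient.mk _ (Y.incl z) = Ideal.Quotient.mk _ (Y.incl (ρ • z))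
              rw [← map_mul, Y.isExtension.mul_incl]
              congr 2
              rw [← algebraMap_smul (AdicCompletion (maximalIdeal R) R) (Y.proj y) z, ← sub_eq_zero, ← sub_smul]
              refine hsmul _ z ?_
              have h2 : r - Y.proj y ∈ maximalIdeal R ^ N := by
                rw [← Ideal.Quotient.eq]
                exact har.symm.trans hw
              have h3 := (completion_pow_mem_iff (R := R) N (r - Y.proj y)).mpr h2
              rw [map_sub] at h3
              rw [show algebraMap R (AdicCompletion (maximalIdeal R) R) (Y.proj y) - ρ = -((ρ - algebraMap R (AdicCompletion (maximalIdeal R) R) r) + (algebraMap R (AdicCompletion (maximalIdeal R) R) r - algebraMap R (AdicCompletion (maximalIdeal R) R) (Y.proj y))) by ring]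
              exact Ideal.neg_mem_iff _ |>.mpr (Ideal.add_mem _ hr h3) } }
  let g : Y.E →ₐ[Λ] E :=
    (((IsScalarTower.toAlgHom Λ R (AdicCompletion (maximalIdeal R) R)).comp Y.proj).prod (Ideal.Quotient.mkₐ Λ (top' Y ^ N))).codRestrict E fun y => by
      show a (algebraMap R (AdicCompletion (maximalIdeal R) R) (Y.proj y)) = _
      rw [ha]
      rfl
  let h : Y.E →ₐ[Λ] (X.pullback R).E := (g.prod Y.proj).codRestrict (X.fiberProd R) fun y => rfl
  obtain ⟨e⟩ := ExalLib.nonempty_equiv Y (X.pullback R) h (fun y => rfl) fun z => by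
    refine Subtype.ext (Prod.ext (Subtype.ext (Prod.ext ?_ rfl)) ?_)
    · show algebraMap R (AdicCompletion (maximalIdeal R) R) (Y.proj (Y.incl z)) = 0
      rw [ExalLib.proj_incl, map_zero]
    · exact ExalLib.proj_incl Y z
  exact ⟨X, ⟨e.symm⟩⟩

end Compl

end Groth.Agent.ExalComplLib
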